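import Cfsg.Agent.H361.CV.Lin

/-!
# `SU_3(q)`: conjugacy to the elements `gc c y` (helper361, row M9 of S3442)
-/

set_option autoImplicit false

namespace Cfsg.Agent.H361.CV

open Matrix Cfsg.Agent.UThreeGen.MatGroup Cfsg.Agent.H906

variable {F : Type*} [Field F] {σ : F →+* F} [hσ : Fact (∀ x, σ (σ x) = x)] {q : ℕ}

theorem eq_one_of_pow {c : F} (h3 : ¬ 3 ∣ q + 1) (hc : c ^ 3 = 1) (hc' : c ^ (q + 1) = 1) : c = 1 := by
  have h : Nat.gcd 3 (q + 1) = 1 := (Nat.Prime.coprime_iff_not_dvd Nat.prime_three).2 h3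
  have h1 := Nat.dvd_gcd (orderOf_dvd_of_pow_eq_one hc) (orderOf_dvd_of_pow_eq_one hc')
  rw [h, Nat.dvd_one] at h1
  exact orderOf_eq_one_iff.1 h1

theorem center_triv (hs : ∀ x, σ x = x ^ q) (h3 : ¬ 3 ∣ q + 1) (hx : ∃ x : HG σ, x.a ≠ 0) {g : SUG σ}
    (hg : g ∈ Subgroup.center (SUG σ)) : g = 1 := by
  have hcomm := Subgroup.mem_center_iff.1 hg
  have hB := center_le_borel hx hg
  have hw : (wel σ)⁻¹ * g * wel σ ∈ borel σ := by
    rw [mul_assoc, ← hcomm, inv_mul_cancel_left]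
    exact hB
  obtain ⟨h10, h20, h01, h21, h02, h12⟩ := entries_of_mem hB hw
  obtain ⟨x, hx⟩ := hx
  have c1 : umat x * g.1.1 = g.1.1 * umat x := congrArg (fun k : SUG σ => k.1.1) (hcomm (emb σ x))
  have c2 : Wm F * g.1.1 = g.1.1 * Wm F := congrArg (fun k : SUG σ => k.1.1) (hcomm (wel σ))
  have e1 : x.a * g.1.1 1 1 = g.1.1 0 0 * x.a := by
    have := congrFun (congrFun c1 0) 1
    simpa [umat, Matrix.mul_apply, Fin.sum_univ_three, h01, h21] using this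
  have e2 : g.1.1 2 2 = g.1.1 0 0 := by
    have := congrFun (congrFun c2 0) 2
    simpa [Wm, Matrix.mul_apply, Fin.sum_univ_three, h02] using this
  have e3 : g.1.1 1 1 = g.1.1 0 0 := by
    apply mul_left_cancel₀ hx
    rw [e1, mul_comm]
  have hdet : g.1.1.det = 1 := g.1.2
  rw [Matrix.det_fin_three, h10, h20, h12, h02, e3, e2] at hdet
  have hc3 : g.1.1 0 0 ^ 3 = 1 := by linear_combination hdet
  have e4 := entry_of_mem_SUG g.2 0 2
  rw [h10, h20, e2] at e4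
  have hc4 : g.1.1 0 0 ^ (q + 1) = 1 := by
    have : Gm F 0 2 = 1 := by simp [Gm]
    rw [this] at e4
    rw [pow_succ, ← hs]
    linear_combination e4
  have hc := eq_one_of_pow h3 hc3 hc4
  apply Subtype.ext
  apply Subtype.ext
  change g.1.1 = 1
  ext i j
  fin_cases i <;> fin_cases j <;> simp [h10, h20, h01, h21, h02, h12, e3, e2, hc]

theorem core_triv (hs : ∀ x, σ x = x ^ q) (h3 : ¬ 3 ∣ q + 1) (hx : ∃ x : HG σ, x.a ≠ 0) {g : SUG σ}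
    (hg : ∀ k : SUG σ, k⁻¹ * g * k ∈ borel σ) : g = 1 :=
  center_triv hs h3 hx (mem_center_of_fix hx hg)

theorem borel_eq' (b : SUG σ) (hb : b ∈ borel σ) : ∃ (a : Fˣ) (u : HG σ), b = tor σ a * emb σ u := by
  obtain ⟨_, ⟨u, rfl⟩, a, h⟩ := borel_eq b⁻¹ ((borel σ).inv_mem hb)
  refine ⟨a⁻¹, u⁻¹, ?_⟩
  rw [map_inv, map_inv, ← _root_.mul_inv_rev, ← h, inv_inv]

/-- every `g ≠ 1` is conjugate to a `gc c y` -/
theorem exists_gc (hs : ∀ x, σ x = x ^ q) (h3 : ¬ 3 ∣ q + 1) (hx : ∃ x : HG σ, x.a ≠ 0) {g : SUG σ} (hg : g ≠ 1) :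
    ∃ (c : Fˣ) (y : HG σ) (h : SUG σ), h * g * h⁻¹ = gc c y := by
  obtain ⟨k, hk⟩ : ∃ k : SUG σ, k⁻¹ * g * k ∉ borel σ := by
    by_contra hcon
    push Not at hcon
    exact hg (core_triv hs h3 hx hcon)
  obtain ⟨_, ⟨s, rfl⟩, hb⟩ := data_SUG.bruhat _ hk
  obtain ⟨a, u, hau⟩ := borel_eq' _ hb
  refine ⟨-a, u * s, (emb σ s)⁻¹ * k⁻¹, ?_⟩
  rw [gc, neg_neg, map_mul]
  have h1 : k⁻¹ * g * k = emb σ s * wel σ * (tor σ a * emb σ u) := by
    rw [← hau]; group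
  calc (emb σ s)⁻¹ * k⁻¹ * g * ((emb σ s)⁻¹ * k⁻¹)⁻¹ = (emb σ s)⁻¹ * (k⁻¹ * g * k) * emb σ s := by group
    _ = _ := by rw [h1]; group

/-- Hilbert 90 -/
theorem exists_c (hne : ∃ x, σ x ≠ x) {κ : F} (hκ : κ * σ κ = 1) : ∃ c : Fˣ, σ (c : F) = κ * c := by
  have hκ0 : κ ≠ 0 := by
    rintro rfl
    rw [zero_mul] at hκ
    exact zero_ne_one hκ
  have hσκ : σ κ = κ⁻¹ := eq_inv_of_mul_eq_one_right hκ
  have key : ∀ u : F, σ (u + κ⁻¹ * σ u) = κ * (u + κ⁻¹ * σ u) := by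
    intro u
    rw [map_add, map_mul, map_inv₀, hσκ, inv_inv, sig]
    field_simp
    ring
  by_cases h : κ = -1
  · obtain ⟨x, hx⟩ := hne
    have h1 : x + κ⁻¹ * σ x ≠ 0 := by
      rw [h, inv_neg, inv_one, neg_one_mul]
      intro h2
      exact hx (by linear_combination -h2)
    exact ⟨Units.mk0 _ h1, key x⟩
  · have h1 : (1 : F) + κ⁻¹ * σ 1 ≠ 0 := by
      rw [map_one, mul_one]
      intro h2
      apply h
      have h3 : κ⁻¹ = -1 := by linear_combination h2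
      rw [← inv_inv κ, h3, inv_neg, inv_one]
    exact ⟨Units.mk0 _ h1, key 1⟩

end Cfsg.Agent.H361.CV
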