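import Cfsg.Agent.H361.CV.LineM
import Cfsg.Agent.H376.SpOrbit
import Cfsg.Agent.H105.SzURoot

/-!
# `SU_3(q)`: the torus of order `q ^ 2 - q + 1` (helper361, row M9 of S3442)

* `exists_sing` : an element `g` of order `N = q ^ 2 - q + 1` whose powers `g ^ j ≠ 1` are cyclic, without eigenvalues in `F`;
* `dich` : elements of order prime to `q` satisfy `z ^ (q ^ 2 - 1) = 1` or `z ^ N = 1`.
-/

set_option autoImplicit false

namespace Cfsg.Agent.H361.CV

open Finset Matrix Cfsg.Agent.UThreeGen.MatGroup Cfsg.Agent.H906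

section Arith

/-- `N = q ^ 2 - q + 1` -/
theorem N_eq {q : ℕ} : ((q ^ 2 - q + 1 : ℕ) : ℤ) = (q : ℤ) ^ 2 - q + 1 := by
  have h : q ≤ q ^ 2 := by
    rcases Nat.eq_zero_or_pos q with h | h
    · rw [h]; simp
    · rw [sq]; exact Nat.le_mul_of_pos_left q h
  push_cast [Nat.cast_sub h]
  ring

theorem N_coprime {q : ℕ} (hq : 1 < q) (h3 : ¬ 3 ∣ q + 1) : Nat.Coprime (q ^ 2 - q + 1) (q ^ 2 - 1) := by
  obtain ⟨r, rfl⟩ : ∃ r, q = r + 2 := ⟨q - 2, by omega⟩
  have h1 : (r + 2) ^ 2 - (r + 2) + 1 = (r + 2) * (r + 1) + 1 := by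
    have : (r + 2) ^ 2 = (r + 2) * (r + 1) + (r + 2) := by ring
    omega
  have h2 : (r + 2) ^ 2 - 1 = (r + 1) * (r + 3) := by
    have : (r + 2) ^ 2 = (r + 1) * (r + 3) + 1 := by ring
    omega
  rw [h1, h2]
  apply Nat.Coprime.mul_right
  · rw [Nat.coprime_comm, mul_comm]
    simp
  · have h4 : (r + 2) * (r + 1) + 1 = 3 + (r + 3) * r := by ring
    rw [h4]
    simp only [Nat.coprime_add_mul_left_left]
    exact (Nat.Prime.coprime_iff_not_dvd Nat.prime_three).2 h3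

theorem dvd_six {q : ℕ} (hq : 1 < q) : q ^ 2 - q + 1 ∣ q ^ 6 - 1 := by
  obtain ⟨r, rfl⟩ : ∃ r, q = r + 1 := ⟨q - 1, by omega⟩
  have h1 : (r + 1) ^ 2 - (r + 1) + 1 = (r + 1) * r + 1 := by
    have : (r + 1) ^ 2 = (r + 1) * r + (r + 1) := by ring
    omega
  rw [h1]
  refine ⟨r * (r + 2) * ((r + 1) ^ 2 + (r + 1) + 1), ?_⟩
  have : (r + 1) ^ 6 = ((r + 1) * r + 1) * (r * (r + 2) * ((r + 1) ^ 2 + (r + 1) + 1)) + 1 := by ring
  omega

theorem dvd_three {q : ℕ} (hq : 1 < q) : q ^ 2 - q + 1 ∣ q ^ 3 + 1 := by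
  obtain ⟨r, rfl⟩ : ∃ r, q = r + 1 := ⟨q - 1, by omega⟩
  have h1 : (r + 1) ^ 2 - (r + 1) + 1 = (r + 1) * r + 1 := by
    have : (r + 1) ^ 2 = (r + 1) * r + (r + 1) := by ring
    omega
  rw [h1]
  exact ⟨r + 2, by ring⟩

theorem dvd_four {q : ℕ} (hq : 1 < q) : q ^ 2 - q + 1 ∣ 1 + q ^ 2 + q ^ 4 := by
  obtain ⟨r, rfl⟩ : ∃ r, q = r + 1 := ⟨q - 1, by omega⟩
  have h1 : (r + 1) ^ 2 - (r + 1) + 1 = (r + 1) * r + 1 := by
    have : (r + 1) ^ 2 = (r + 1) * r + (r + 1) := by ring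
    omega
  rw [h1]
  exact ⟨(r + 1) ^ 2 + (r + 1) + 1, by ring⟩

end Arith

section Frob

variable {F : Type*} [Field F] [Fintype F] {q : ℕ} [hqp : Fact q.Prime] [CharP F q] {K : Type*} [Field K] [Algebra F K]
  (hF : Fintype.card F = q ^ 2) (h3 : ¬ 3 ∣ q + 1)

include hF h3

/-- roots of unity of order dividing `N` generate the cubic extension -/
theorem frob_ne {γ : K} (hγ : γ ^ (q ^ 2 - q + 1) = 1) (h1 : γ ≠ 1) :
    γ ^ q ^ 2 ≠ γ ∧ (γ ^ q ^ 2) ^ q ^ 2 ≠ γ ∧ (γ ^ q ^ 2) ^ q ^ 2 ≠ γ ^ q ^ 2 ∧ ((γ ^ q ^ 2) ^ q ^ 2) ^ q ^ 2 = γ := by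
  have hq : 1 < q := hqp.out.one_lt
  have hγ0 : γ ≠ 0 := by
    rintro rfl
    rw [zero_pow (by omega)] at hγ
    exact zero_ne_one hγ
  have h2 : γ ^ q ^ 2 ≠ γ := by
    intro h
    apply h1
    have h4 : γ ^ (q ^ 2 - 1) = 1 := by
      have h5 : γ ^ (q ^ 2 - 1) * γ = 1 * γ := by
        rw [← pow_succ, Nat.sub_add_cancel (Nat.one_le_pow _ _ (by omega)), one_mul, h]
      exact mul_right_cancel₀ hγ0 h5
    have h6 := Nat.dvd_gcd (orderOf_dvd_of_pow_eq_one hγ) (orderOf_dvd_of_pow_eq_one h4)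
    rw [(N_coprime hq h3).gcd_eq_one, Nat.dvd_one] at h6
    exact orderOf_eq_one_iff.1 h6
  have h6 : ((γ ^ q ^ 2) ^ q ^ 2) ^ q ^ 2 = γ := by
    rw [← pow_mul, ← pow_mul, ← pow_add, ← pow_add]
    obtain ⟨m, hm⟩ := dvd_six hq
    have h7 : q ^ (2 + 2 + 2) = (q ^ 2 - q + 1) * m + 1 := by
      have : 1 ≤ q ^ 6 := Nat.one_le_pow _ _ (by omega)
      change q ^ 6 = _
      omega
    rw [h7, pow_succ, pow_mul, hγ, one_pow, one_mul]
  refine ⟨h2, ?_, ?_, h6⟩
  · intro h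
    rw [h] at h6
    exact h2 h6
  · intro h
    apply h2
    have : CharP K q := charP_of_injective_algebraMap (algebraMap F K).injective q
    have hinj : Function.Injective (iterateFrobenius K q 2) := (iterateFrobenius K q 2).injective
    apply hinj
    rw [iterateFrobenius_def, iterateFrobenius_def]
    exact h

theorem quad_ne {γ : K} (hγ : γ ^ (q ^ 2 - q + 1) = 1) (h1 : γ ≠ 1) {a b c : F}
    (h : algebraMap F K a + algebraMap F K b * γ + algebraMap F K c * γ ^ 2 = 0) : a = 0 ∧ b = 0 ∧ c = 0 := by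
  obtain ⟨n1, n2, n3, -⟩ := frob_ne hF h3 hγ h1
  have : CharP K q := charP_of_injective_algebraMap (algebraMap F K).injective q
  have hfr : ∀ x : F, (algebraMap F K x) ^ q ^ 2 = algebraMap F K x := by
    intro x
    rw [← map_pow, ← hF, FiniteField.pow_card]
  have step : ∀ x : K, algebraMap F K a + algebraMap F K b * x + algebraMap F K c * x ^ 2 = 0 →
      algebraMap F K a + algebraMap F K b * x ^ q ^ 2 + algebraMap F K c * (x ^ q ^ 2) ^ 2 = 0 := by
    intro x hx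
    have h4 := congrArg (iterateFrobenius K q 2) hx
    simp only [map_add, map_mul, map_pow, map_zero, iterateFrobenius_def, hfr] at h4
    exact h4
  have e1 := step _ h
  have e2 := step _ e1
  set u := γ ^ q ^ 2 with hu
  set w := u ^ q ^ 2 with hw
  have d1 : algebraMap F K b + algebraMap F K c * (γ + u) = 0 := by
    have : (γ - u) * (algebraMap F K b + algebraMap F K c * (γ + u)) = 0 := by linear_combination h - e1
    exact (mul_eq_zero.1 this).resolve_left (sub_ne_zero.2 (Ne.symm n1))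
  have d2 : algebraMap F K b + algebraMap F K c * (γ + w) = 0 := by
    have : (γ - w) * (algebraMap F K b + algebraMap F K c * (γ + w)) = 0 := by linear_combination h - e2
    exact (mul_eq_zero.1 this).resolve_left (sub_ne_zero.2 (Ne.symm n2))
  have d3 : algebraMap F K c = 0 := by
    have : (u - w) * algebraMap F K c = 0 := by linear_combination d1 - d2
    exact (mul_eq_zero.1 this).resolve_left (sub_ne_zero.2 (Ne.symm n3))
  rw [d3, zero_mul, add_zero] at d1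
  rw [d3, d1, zero_mul, zero_mul, add_zero, add_zero] at h
  exact ⟨(map_eq_zero _).1 h, (map_eq_zero _).1 d1, (map_eq_zero _).1 d3⟩

end Frob

section Sing

variable {F : Type*} [Field F] [Fintype F] {σ : F →+* F} [hσ : Fact (∀ x, σ (σ x) = x)] {q : ℕ}

omit hσ in
theorem exists_ne (hF : Fintype.card F = q ^ 2) (hq : 1 < q) (hs : ∀ x, σ x = x ^ q) : ∃ x, σ x ≠ x := by
  by_contra hcon
  push Not at hcon
  have h4 := Cfsg.Agent.H906.card_le_of_pow_eq (F := F) (m := q) hq (fun x => by rw [← hs]; exact hcon x)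
  rw [Nat.card_eq_fintype_card, hF] at h4
  have h5 := Nat.le_of_dvd (by omega) h4
  have h6 : q * 2 ≤ q ^ 2 := by rw [sq]; exact Nat.mul_le_mul_left q hq
  omega

/-- a cyclic element with given trace -/
theorem exists_reg (hF : Fintype.card F = q ^ 2) (hq : 1 < q) (hs : ∀ x, σ x = x ^ q) {α : F} (hα : cp σ α 1 ≠ 0) :
    ∃ g : SUG σ, Reg g ∧ tr g = α := by
  obtain ⟨c, hc⟩ := exists_c (exists_ne hF hq hs) (κ := -1) (by rw [map_neg, map_one]; ring)
  have hc0 : (c : F) ≠ 0 := c.ne_zero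
  obtain ⟨y, hy⟩ := Cfsg.Agent.UThreeGen.Recog.exists_b (σ := σ) hq hs (by rw [Nat.card_eq_fintype_card, hF])
    ((α - 1) / c)
  refine ⟨gc c y, reg_gc c y ?_, ?_⟩
  · intro h0
    apply hα
    have h4 := y.h
    rw [hy, h0, zero_mul, map_div₀, map_sub, map_one, hc] at h4
    unfold cp
    field_simp at h4
    linear_combination -h4
  · rw [tr_gc, hy, hc]
    field_simp
    ring

variable [hqp : Fact q.Prime] [CharP F q] (hF : Fintype.card F = q ^ 2) (h3 : ¬ 3 ∣ q + 1) (hs : ∀ x, σ x = x ^ q)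

include hF h3 hs

theorem exists_root : ∃ (α : F) (β : AlgebraicClosure F), IsPrimitiveRoot β (q ^ 2 - q + 1) ∧
    ∀ x : AlgebraicClosure F, x ^ 3 - algebraMap F _ α * x ^ 2 + algebraMap F _ (σ α) * x - 1 =
      (x - β) * (x - β ^ q ^ 2) * (x - (β ^ q ^ 2) ^ q ^ 2) := by
  have hq : 1 < q := hqp.out.one_lt
  have hN : ((q ^ 2 - q + 1 : ℕ) : F) = 1 := by
    have h1 : q ^ 2 - q + 1 = q * (q - 1) + 1 := by
      have : q ^ 2 = q * (q - 1) + q := by
        obtain ⟨r, rfl⟩ : ∃ r, q = r + 1 := ⟨q - 1, by omega⟩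
        rw [Nat.add_sub_cancel]
        ring
      omega
    rw [h1]
    push_cast
    rw [CharP.cast_eq_zero, zero_mul, zero_add]
  have : NeZero ((q ^ 2 - q + 1 : ℕ) : F) := ⟨by rw [hN]; exact one_ne_zero⟩
  have hcharK : CharP (AlgebraicClosure F) q := charP_of_injective_algebraMap (algebraMap F _).injective q
  obtain ⟨β, hβ⟩ := HasEnoughRootsOfUnity.exists_primitiveRoot (AlgebraicClosure F) (q ^ 2 - q + 1)
  have hN2 : q ^ 2 - q + 1 ≠ 1 := by
    have h6 : q * 2 ≤ q ^ 2 := by rw [sq]; exact Nat.mul_le_mul_left q hq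
    omega
  have hβ1 : β ≠ 1 := hβ.ne_one (by omega)
  obtain ⟨n1, n2, n3, h6⟩ := frob_ne (F := F) hF h3 hβ.pow_eq_one hβ1
  have star : ∀ γ : AlgebraicClosure F, γ ^ (q ^ 2 - q + 1) = 1 → (γ ^ q ^ 2) ^ q * γ = 1 := by
    intro γ hγ
    obtain ⟨m, hm⟩ := dvd_three hq
    rw [← pow_mul, ← pow_succ, ← pow_succ, hm, pow_mul, hγ, one_pow]
  have pw : ∀ γ : AlgebraicClosure F, γ ^ (q ^ 2 - q + 1) = 1 → (γ ^ q ^ 2) ^ (q ^ 2 - q + 1) = 1 := by
    intro γ hγ
    rw [← pow_mul, mul_comm, pow_mul, hγ, one_pow]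
  have hb0 := hβ.pow_eq_one
  have hb1 := pw _ hb0
  have hb2 := pw _ hb1
  have s0 := star _ hb0
  have s1 := star _ hb1
  have s2 := star _ hb2
  rw [h6] at s2
  have hprod : β * β ^ q ^ 2 * (β ^ q ^ 2) ^ q ^ 2 = 1 := by
    obtain ⟨m, hm⟩ := dvd_four hq
    have h7 : β * β ^ q ^ 2 * (β ^ q ^ 2) ^ q ^ 2 = β ^ (1 + q ^ 2 + q ^ 4) := by
      rw [← pow_mul, pow_add, pow_add, pow_one]
      congr 2
      ring
    rw [h7, hm, pow_mul, hb0, one_pow]
  obtain ⟨u, hu⟩ : ∃ u, u = β ^ q ^ 2 := ⟨_, rfl⟩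
  obtain ⟨w, hw⟩ : ∃ w, w = u ^ q ^ 2 := ⟨_, rfl⟩
  rw [← hu, ← hw] at h6 s1 s2 hprod
  rw [← hu] at s0
  obtain ⟨α, hα⟩ := Cfsg.Agent.H105.SzU.mem_range_of_pow (F := F) (x := β + u + w) (by
    rw [hF, add_pow_char_pow, add_pow_char_pow, h6, ← hw, ← hu]
    ring)
  have hσα : algebraMap F (AlgebraicClosure F) (σ α) = β ^ q + u ^ q + w ^ q := by
    rw [hs, map_pow, hα, add_pow_char, add_pow_char]
  have e0 : β ^ q = β * u := by
    calc β ^ q = β ^ q * (β * u * w) := by rw [hprod, mul_one]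
      _ = (β ^ q * w) * (β * u) := by ring
      _ = β * u := by rw [s2, one_mul]
  have e1 : u ^ q = u * w := by
    calc u ^ q = u ^ q * (β * u * w) := by rw [hprod, mul_one]
      _ = (u ^ q * β) * (u * w) := by ring
      _ = _ := by rw [s0, one_mul]
  have e2 : w ^ q = β * w := by
    calc w ^ q = w ^ q * (β * u * w) := by rw [hprod, mul_one]
      _ = (w ^ q * u) * (β * w) := by ring
      _ = _ := by rw [s1, one_mul]
  refine ⟨α, β, hβ, fun x => ?_⟩
  rw [hα, hσα, e0, e1, e2, ← hu, ← hw]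
  linear_combination hprod

omit [Fintype F] hσ hqp [CharP F q] hF h3 hs in
theorem pow_val (g : SUG σ) (j : ℕ) : (g ^ j).1.1 = g.1.1 ^ j := by
  induction j with
  | zero => rw [pow_zero, pow_zero]; rfl
  | succ j ih => rw [pow_succ, pow_succ, coe_mul_SUG, ih]

open Polynomial in
theorem exists_sing : ∃ g : SUG σ, g ^ (q ^ 2 - q + 1) = 1 ∧ ∀ j, ¬ (q ^ 2 - q + 1) ∣ j →
    g ^ j ≠ 1 ∧ Reg (g ^ j) ∧ ∀ κ, cp σ (tr (g ^ j)) κ ≠ 0 := by
  classical
  have hq : 1 < q := hqp.out.one_lt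
  obtain ⟨α, β, hβ, hroots⟩ := exists_root (σ := σ) hF h3 hs
  have hpow : ∀ j, ¬ (q ^ 2 - q + 1) ∣ j → (β ^ j) ^ (q ^ 2 - q + 1) = 1 ∧ β ^ j ≠ 1 := by
    intro j hj
    refine ⟨by rw [← pow_mul, mul_comm, pow_mul, hβ.pow_eq_one, one_pow], fun h => hj (hβ.dvd_of_pow_eq_one _ h)⟩
  have hN1 : ¬ (q ^ 2 - q + 1) ∣ 1 := by
    rw [Nat.dvd_one]
    have h6 : q * 2 ≤ q ^ 2 := by rw [sq]; exact Nat.mul_le_mul_left q hq
    omega
  obtain ⟨hb0, hb01⟩ := hpow 1 hN1
  rw [pow_one] at hb0 hb01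
  have hfr : ∀ γ : AlgebraicClosure F, γ ^ (q ^ 2 - q + 1) = 1 → γ ≠ 1 →
      (γ ^ q ^ 2) ^ (q ^ 2 - q + 1) = 1 ∧ γ ^ q ^ 2 ≠ 1 := by
    intro γ hγ hγ1
    refine ⟨by rw [← pow_mul, mul_comm, pow_mul, hγ, one_pow], fun h => ?_⟩
    obtain ⟨-, -, h4, -⟩ := frob_ne (F := F) hF h3 hγ hγ1
    rw [h, one_pow] at h4
    exact h4 rfl
  obtain ⟨hb1, hb11⟩ := hfr β hb0 hb01
  obtain ⟨hb2, hb21⟩ := hfr _ hb1 hb11
  obtain ⟨P, hP⟩ : ∃ P : F[X], P = X ^ 3 - C α * X ^ 2 + C (σ α) * X - 1 := ⟨_, rfl⟩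
  have hPβ : aeval β P = 0 := by
    have := hroots β
    rw [sub_self, zero_mul, zero_mul] at this
    rw [hP]
    simpa using this
  have hno : ∀ κ : F, P.eval κ ≠ 0 := by
    intro κ h
    have h4 := hroots (algebraMap F _ κ)
    have h5 : (algebraMap F (AlgebraicClosure F) κ) ^ 3 - algebraMap F _ α * (algebraMap F _ κ) ^ 2 +
        algebraMap F _ (σ α) * (algebraMap F _ κ) - 1 = 0 := by
      rw [hP] at h
      have h6 := congrArg (algebraMap F (AlgebraicClosure F)) h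
      simpa using h6
    rw [h5, eq_comm, mul_eq_zero, mul_eq_zero] at h4
    have key : ∀ γ : AlgebraicClosure F, γ ^ (q ^ 2 - q + 1) = 1 → γ ≠ 1 → algebraMap F _ κ - γ ≠ 0 := by
      intro γ hγ hγ1 h7
      have h8 := quad_ne (a := κ) (b := -1) (c := 0) hF h3 hγ hγ1 (by
        rw [map_neg, map_one, map_zero]
        linear_combination h7)
      exact one_ne_zero (neg_eq_zero.1 h8.2.1)
    rcases h4 with (h4 | h4) | h4
    · exact key _ hb0 hb01 h4
    · exact key _ hb1 hb11 h4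
    · exact key _ hb2 hb21 h4
  have hdeg : P.natDegree = 3 := by
    rw [hP]
    compute_degree!
  have hmon : P.Monic := by
    rw [hP]
    monicity!
  have hirr : Irreducible P := by
    refine Polynomial.irreducible_of_degree_le_three_of_not_isRoot ?_ ?_
    · rw [hdeg]; simp
    · intro x hx
      exact hno x hx
  have hmin : minpoly F β = P := (minpoly.eq_of_irreducible_of_monic hirr hPβ hmon).symm
  have hcp1 : cp σ α 1 ≠ 0 := by
    have := hno 1
    rw [hP] at this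
    unfold cp
    simpa using this
  obtain ⟨g, hg, htr⟩ := exists_reg hF hq hs hcp1
  have hPM : aeval g.1.1 P = 0 := by
    have h4 := cayley g
    rw [htr] at h4
    rw [hP]
    simp only [map_sub, map_add, map_mul, map_pow, aeval_X, aeval_C, map_one]
    rw [h4, Algebra.algebraMap_eq_smul_one, Algebra.algebraMap_eq_smul_one, smul_mul_assoc, smul_mul_assoc, one_mul,
      one_mul]
    abel
  have h0 : ∀ f : F[X], aeval β f = 0 → aeval g.1.1 f = 0 := by
    intro f hf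
    have h4 := minpoly.dvd F β hf
    rw [hmin] at h4
    obtain ⟨r, rfl⟩ := h4
    rw [map_mul, hPM, zero_mul]
  have h1 : ∀ f : F[X], aeval β f ≠ 0 → IsUnit (aeval g.1.1 f) := by
    intro f hf
    have h4 : IsCoprime P f := by
      rw [hirr.coprime_iff_not_dvd]
      rintro ⟨r, rfl⟩
      apply hf
      rw [map_mul, hPβ, zero_mul]
    obtain ⟨a, b, hab⟩ := h4
    have h5 := congrArg (aeval g.1.1) hab
    rw [map_add, map_mul, map_mul, hPM, mul_zero, zero_add, map_one] at h5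
    exact IsUnit.of_mul_eq_one _ (mul_eq_one_comm.1 h5)
  refine ⟨g, ?_, fun j hj => ?_⟩
  · have h4 := h0 (X ^ (q ^ 2 - q + 1) - 1) (by simp [hb0])
    rw [map_sub, map_pow, aeval_X, map_one, sub_eq_zero] at h4
    apply Subtype.ext
    apply Subtype.ext
    change (g ^ (q ^ 2 - q + 1)).1.1 = 1
    rw [pow_val, h4]
  obtain ⟨hγ, hγ1⟩ := hpow j hj
  refine ⟨fun h => ?_, ?_, fun κ hκ => ?_⟩
  · have h4 := h1 (X ^ j - 1) (by
      rw [map_sub, map_pow, aeval_X, map_one]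
      exact sub_ne_zero.2 hγ1)
    rw [map_sub, map_pow, aeval_X, map_one, ← pow_val, h] at h4
    change IsUnit ((1 : Matrix (Fin 3) (Fin 3) F) - 1) at h4
    rw [sub_self] at h4
    exact not_isUnit_zero h4
  · refine ⟨![1, 0, 0], fun hd => ?_⟩
    obtain ⟨w, hw0, hw⟩ := Matrix.exists_mulVec_eq_zero_iff.2 hd
    set v : Fin 3 → F := ![1, 0, 0] with hv
    have h4 : aeval g.1.1 (C (w 0) + C (w 1) * X ^ j + C (w 2) * (X ^ j) ^ 2) *ᵥ v = 0 := by
      rw [← hw]
      simp only [map_add, map_mul, map_pow, aeval_X, aeval_C]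
      rw [Algebra.algebraMap_eq_smul_one, Algebra.algebraMap_eq_smul_one, Algebra.algebraMap_eq_smul_one,
        smul_mul_assoc, smul_mul_assoc, one_mul, one_mul, ← pow_val]
      rw [Matrix.add_mulVec, Matrix.add_mulVec, Matrix.smul_mulVec, Matrix.smul_mulVec, Matrix.smul_mulVec,
        Matrix.one_mulVec]
      ext i
      rw [Matrix.mulVec, dotProduct, Fin.sum_univ_three]
      simp only [pm, Matrix.of_apply, Matrix.cons_val_zero, Matrix.cons_val_one, Matrix.cons_val, Pi.add_apply,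
        Pi.smul_apply, smul_eq_mul]
      ring
    have h5 : aeval β (C (w 0) + C (w 1) * X ^ j + C (w 2) * (X ^ j) ^ 2) ≠ 0 := by
      intro h6
      simp only [map_add, map_mul, map_pow, aeval_X, aeval_C] at h6
      obtain ⟨e0, e1, e2⟩ := quad_ne hF h3 hγ hγ1 h6
      apply hw0
      ext i
      fin_cases i
      · exact e0
      · exact e1
      · exact e2
    obtain ⟨M, hM⟩ := (h1 _ h5).exists_left_inv
    have h6 : v = 0 := by
      have := congrArg (fun x => M *ᵥ x) h4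
      simp only [Matrix.mulVec_mulVec, Matrix.mulVec_zero, hM, Matrix.one_mulVec] at this
      exact this
    have h7 := congrFun h6 0
    simp [hv] at h7
  · obtain ⟨M, hMdef⟩ : ∃ M, M = (g ^ j).1.1 := ⟨_, rfl⟩
    obtain ⟨a, ha⟩ : ∃ a, a = tr (g ^ j) := ⟨_, rfl⟩
    have h4 := cayley (g ^ j)
    rw [← hMdef, ← ha] at h4
    rw [← ha] at hκ
    unfold cp at hκ
    have u1 : IsUnit (M - κ • (1 : Matrix (Fin 3) (Fin 3) F)) := by
      have := h1 (X ^ j - C κ) (by
        rw [map_sub, map_pow, aeval_X, aeval_C]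
        intro h6
        obtain ⟨-, e1, -⟩ := quad_ne (a := -κ) (b := 1) (c := 0) hF h3 hγ hγ1 (by
          rw [map_neg, map_one, map_zero]
          linear_combination h6)
        exact one_ne_zero e1)
      rwa [map_sub, map_pow, aeval_X, aeval_C, Algebra.algebraMap_eq_smul_one, ← pow_val, ← hMdef] at this
    have u2 : IsUnit (M ^ 2 + (κ - a) • M + (κ ^ 2 - a * κ + σ a) • (1 : Matrix (Fin 3) (Fin 3) F)) := by
      have := h1 ((X ^ j) ^ 2 + C (κ - a) * X ^ j + C (κ ^ 2 - a * κ + σ a)) (by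
        rw [map_add, map_add, map_mul, map_pow, map_pow, aeval_X, aeval_C, aeval_C]
        intro h6
        obtain ⟨-, -, e2⟩ := quad_ne (a := κ ^ 2 - a * κ + σ a) (b := κ - a) (c := 1) hF h3 hγ hγ1 (by
          rw [map_one]
          linear_combination h6)
        exact one_ne_zero e2)
      rwa [map_add, map_add, map_mul, map_pow, map_pow, aeval_X, aeval_C, aeval_C, Algebra.algebraMap_eq_smul_one,
        Algebra.algebraMap_eq_smul_one, smul_mul_assoc, one_mul, ← pow_val, ← hMdef] at this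
    have h7 : (M - κ • (1 : Matrix (Fin 3) (Fin 3) F)) *
        (M ^ 2 + (κ - a) • M + (κ ^ 2 - a * κ + σ a) • (1 : Matrix (Fin 3) (Fin 3) F)) = 0 := by
      have h8 : (M - κ • (1 : Matrix (Fin 3) (Fin 3) F)) *
          (M ^ 2 + (κ - a) • M + (κ ^ 2 - a * κ + σ a) • (1 : Matrix (Fin 3) (Fin 3) F)) =
          M ^ 3 - a • M ^ 2 + σ a • M - (κ ^ 3 - a * κ ^ 2 + σ a * κ) • (1 : Matrix (Fin 3) (Fin 3) F) := by
        rw [sub_mul, mul_add, mul_add, mul_add, mul_add, smul_mul_assoc, smul_mul_assoc, smul_mul_assoc, mul_smul_comm,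
          mul_smul_comm, one_mul, one_mul, one_mul, mul_one, ← pow_succ', ← sq]
        module
      rw [h8, h4]
      have h9 : κ ^ 3 - a * κ ^ 2 + σ a * κ = 1 := by linear_combination hκ
      rw [h9, one_smul]
      abel
    have h10 := u1.mul u2
    rw [h7] at h10
    exact not_isUnit_zero h10

open Module in
/-- **elements of order prime to `q`** -/
theorem dich {z : SUG σ} {n : ℕ} (hn : (n : F) ≠ 0) (hz : z ^ n = 1) :
    z ^ (q ^ 2 - 1) = 1 ∨ z ^ (q ^ 2 - q + 1) = 1 := by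
  classical
  have hq : 1 < q := hqp.out.one_lt
  by_contra hcon
  push Not at hcon
  obtain ⟨hc1, hc2⟩ := hcon
  let K := AlgebraicClosure F
  let i : F →+* K := algebraMap F K
  have hi : Function.Injective i := i.injective
  have hcharK : CharP K q := charP_of_injective_algebraMap (algebraMap F K).injective q
  let Y : Matrix (Fin 3) (Fin 3) K := z.1.1.map i
  have hYpow : ∀ m, Y ^ m = (z ^ m).1.1.map i := by
    intro m
    rw [pow_val]
    exact (Matrix.map_pow z.1.1 i m).symm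
  have hYne : ∀ m, z ^ m ≠ 1 → Y ^ m ≠ 1 := by
    intro m hm h
    apply hm
    rw [hYpow] at h
    apply Subtype.ext
    apply Subtype.ext
    change (z ^ m).1.1 = 1
    have h4 : (z ^ m).1.1.map i = (1 : Matrix (Fin 3) (Fin 3) F).map i := by
      rw [h, Matrix.map_one i (map_zero i) (map_one i)]
    exact Matrix.map_injective hi h4
  obtain ⟨X, hX⟩ : ∃ X : Module.End K (Fin 3 → K), X = Y.toLin' := ⟨_, rfl⟩
  have hXpow : ∀ m, X ^ m = (Y ^ m).toLin' := by
    intro m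
    rw [hX, Matrix.toLin'_pow]
  have hX1 : ∀ m, z ^ m ≠ 1 → X ^ m ≠ 1 := by
    intro m hm h
    apply hYne m hm
    rw [hXpow] at h
    apply Matrix.toLin'.injective
    rw [h, Matrix.toLin'_one]
    rfl
  have hXn : ∀ m, (X ^ m) ^ n = 1 := by
    intro m
    rw [← pow_mul, mul_comm, pow_mul, hXpow, hYpow, hz]
    change (Matrix.toLin' ((1 : Matrix (Fin 3) (Fin 3) F).map i)) ^ m = 1
    rw [Matrix.map_one i (map_zero i) (map_one i), Matrix.toLin'_one]
    change (1 : Module.End K (Fin 3 → K)) ^ m = 1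
    exact one_pow m
  have hnK : (n : K) ≠ 0 := by
    intro h
    apply hn
    apply hi
    rw [map_natCast, map_zero, h]
  -- the equation of the eigenvalues
  obtain ⟨a, ha⟩ : ∃ a, a = tr z := ⟨_, rfl⟩
  have heq : ∀ x : K, X.HasEigenvalue x → x ^ 3 - i a * x ^ 2 + i (σ a) * x - 1 = 0 := by
    intro x hx
    obtain ⟨v, hv⟩ := hx.exists_hasEigenvector
    have hv1 : Y *ᵥ v = x • v := by
      have := hv.apply_eq_smul
      rw [hX, Matrix.toLin'_apply] at this
      exact this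
    have h2 : Y ^ 2 *ᵥ v = x ^ 2 • v := by
      rw [sq, ← Matrix.mulVec_mulVec, hv1, Matrix.mulVec_smul, hv1, smul_smul, sq]
    have h3 : Y ^ 3 *ᵥ v = x ^ 3 • v := by
      rw [pow_succ', ← Matrix.mulVec_mulVec, h2, Matrix.mulVec_smul, hv1, smul_smul]
      congr 1
      ring
    have h4 : Y ^ 3 = i a • Y ^ 2 - i (σ a) • Y + 1 := by
      rw [hYpow, hYpow, pow_val, cayley, ← ha, ← pow_val]
      ext r s
      simp only [Matrix.map_apply, Matrix.add_apply, Matrix.sub_apply, Matrix.smul_apply, smul_eq_mul, map_add, map_sub,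
        map_mul, Matrix.one_apply]
      congr 1
      split_ifs
      · exact map_one i
      · exact map_zero i
    rw [h4, Matrix.add_mulVec, Matrix.sub_mulVec, Matrix.smul_mulVec, Matrix.smul_mulVec, h2, hv1, Matrix.one_mulVec] at h3
    obtain ⟨l, hl⟩ : ∃ l, v l ≠ 0 := by
      by_contra hcon
      push Not at hcon
      exact hv.2 (funext hcon)
    have h5 := congrFun h3 l
    simp only [Pi.add_apply, Pi.sub_apply, Pi.smul_apply, smul_eq_mul] at h5
    have h6 : (x ^ 3 - i a * x ^ 2 + i (σ a) * x - 1) * v l = 0 := by linear_combination -h5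
    exact (mul_eq_zero.1 h6).resolve_right hl
  obtain ⟨x, hx, hx1⟩ := Cfsg.Agent.H376.SpOrbit.exists_eigen X hnK (hXn (q ^ 2 - 1)) (hX1 _ hc1)
  have e0 := heq x hx
  have hx0 : x ≠ 0 := by
    rintro rfl
    rw [zero_pow three_ne_zero, zero_pow two_ne_zero, mul_zero, mul_zero] at e0
    apply one_ne_zero (α := K)
    linear_combination -e0
  have hiq : i a ^ q = i (σ a) := by rw [hs, map_pow]
  have hiq' : i (σ a) ^ q = i a := by rw [← map_pow, ← hs, sig]
  have hneg : (-1 : K) ^ q = -1 := by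
    rcases hqp.out.eq_two_or_odd' with h | h
    · rw [h]
      have hc : CharP K 2 := by rw [h] at hcharK; exact hcharK
      rw [neg_one_sq]
      exact (CharTwo.neg_eq (1 : K)).symm
    · exact h.neg_one_pow
  -- the next roots
  have next : ∀ y : K, y ≠ 0 → y ^ 3 - i a * y ^ 2 + i (σ a) * y - 1 = 0 →
      (y ^ q)⁻¹ ^ 3 - i a * (y ^ q)⁻¹ ^ 2 + i (σ a) * (y ^ q)⁻¹ - 1 = 0 := by
    intro y hy0 hy
    have h4 := congrArg (frobenius K q) hy
    simp only [map_add, map_sub, map_mul, map_pow, map_one, map_zero, frobenius_def, hiq, hiq'] at h4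
    have hyq : y ^ q ≠ 0 := pow_ne_zero _ hy0
    obtain ⟨t, ht⟩ : ∃ t, t = (y ^ q)⁻¹ := ⟨_, rfl⟩
    have hty : t * y ^ q = 1 := by rw [ht, inv_mul_cancel₀ hyq]
    rw [← ht]
    have h4' : (y ^ q) ^ 3 - i (σ a) * (y ^ q) ^ 2 + i a * (y ^ q) - 1 = 0 := h4
    linear_combination (-t ^ 3) * h4' + (i a * t ^ 2 - i (σ a) * t * (t * y ^ q + 1) +
      (t ^ 2 * (y ^ q) ^ 2 + t * y ^ q + 1)) * hty
  have e1 := next x hx0 e0
  have e2 := next _ (inv_ne_zero (pow_ne_zero _ hx0)) e1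
  have h7 : (((x ^ q)⁻¹) ^ q)⁻¹ = x ^ q ^ 2 := by
    rw [inv_pow, inv_inv, ← pow_mul, ← sq]
  rw [h7] at e2
  obtain ⟨u, hu⟩ : ∃ u, u = (x ^ q)⁻¹ := ⟨_, rfl⟩
  obtain ⟨w, hw⟩ : ∃ w, w = x ^ q ^ 2 := ⟨_, rfl⟩
  rw [← hu] at e1
  rw [← hw] at e2
  have hxw : x ≠ w := by
    intro h
    apply hx1
    have h5 : x ^ (q ^ 2 - 1) * x = 1 * x := by
      rw [← pow_succ, Nat.sub_add_cancel (Nat.one_le_pow _ _ (by omega)), one_mul]
      rw [hw] at h
      exact h.symm
    exact mul_right_cancel₀ hx0 h5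
  have hxu : x ≠ u := by
    intro h
    apply hxw
    rw [hw, pow_two q, pow_mul]
    have h8 : x ^ q = x⁻¹ := by
      rw [hu] at h
      nth_rewrite 2 [h]
      rw [inv_inv]
    rw [h8, inv_pow, h8, inv_inv]
  have huw : u ≠ w := by
    intro h
    apply hxu
    have h8 : w = (u ^ q)⁻¹ := by rw [hw, hu, h7]
    have h9 : (x ^ q)⁻¹ = (u ^ q)⁻¹ := by rw [← hu, ← h8, h]
    have h10 := inv_injective h9
    exact frobenius_inj K q h10
  -- Vieta
  have d1 : x ^ 2 + x * u + u ^ 2 - i a * (x + u) + i (σ a) = 0 := by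
    have : (x - u) * (x ^ 2 + x * u + u ^ 2 - i a * (x + u) + i (σ a)) = 0 := by linear_combination e0 - e1
    exact (mul_eq_zero.1 this).resolve_left (sub_ne_zero.2 hxu)
  have d2 : x ^ 2 + x * w + w ^ 2 - i a * (x + w) + i (σ a) = 0 := by
    have : (x - w) * (x ^ 2 + x * w + w ^ 2 - i a * (x + w) + i (σ a)) = 0 := by linear_combination e0 - e2
    exact (mul_eq_zero.1 this).resolve_left (sub_ne_zero.2 hxw)
  have d3 : x + u + w - i a = 0 := by
    have : (u - w) * (x + u + w - i a) = 0 := by linear_combination d1 - d2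
    exact (mul_eq_zero.1 this).resolve_left (sub_ne_zero.2 huw)
  have hA : i a = x + u + w := by linear_combination -d3
  have hB : i (σ a) = x * u + u * w + x * w := by
    rw [hA] at d1
    linear_combination d1
  have hprod : x * u * w = 1 := by
    rw [hA, hB] at e0
    linear_combination e0
  have hpowN : ∀ y : K, y ≠ 0 → y * (y ^ q)⁻¹ * y ^ q ^ 2 = 1 → y ^ (q ^ 2 - q + 1) = 1 := by
    intro y hy0 hy
    have hyq : y ^ q ≠ 0 := pow_ne_zero _ hy0
    have h11 : y ^ (q ^ 2 - q + 1) * y ^ q = y * y ^ q ^ 2 := by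
      rw [← pow_add, ← pow_succ']
      congr 1
      have : q ≤ q ^ 2 := by rw [sq]; exact Nat.le_mul_of_pos_left q (by omega)
      omega
    have h12 : y * y ^ q ^ 2 = y ^ q := by
      obtain ⟨t, ht⟩ : ∃ t, t = (y ^ q)⁻¹ := ⟨_, rfl⟩
      have hty : t * y ^ q = 1 := by rw [ht, inv_mul_cancel₀ hyq]
      rw [← ht] at hy
      linear_combination (y ^ q) * hy - y * y ^ q ^ 2 * hty
    apply mul_right_cancel₀ hyq
    rw [h11, h12, one_mul]
  have hxN : x ^ (q ^ 2 - q + 1) = 1 := hpowN x hx0 (by rw [← hu, ← hw]; exact hprod)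
  have huN : u ^ (q ^ 2 - q + 1) = 1 := by
    rw [hu, inv_pow, ← pow_mul, mul_comm, pow_mul, hxN, one_pow, inv_one]
  have hwN : w ^ (q ^ 2 - q + 1) = 1 := by
    rw [hw, ← pow_mul, mul_comm, pow_mul, hxN, one_pow]
  obtain ⟨y, hy, hy1⟩ := Cfsg.Agent.H376.SpOrbit.exists_eigen X hnK (hXn (q ^ 2 - q + 1)) (hX1 _ hc2)
  have f0 := heq y hy
  rw [hA, hB] at f0
  have f1 : (y - x) * (y - u) * (y - w) = 0 := by linear_combination f0 - hprod
  rcases mul_eq_zero.1 f1 with f2 | f2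
  · rcases mul_eq_zero.1 f2 with f3 | f3
    · rw [sub_eq_zero.1 f3] at hy1
      exact hy1 hxN
    · rw [sub_eq_zero.1 f3] at hy1
      exact hy1 huN
  · rw [sub_eq_zero.1 f2] at hy1
    exact hy1 hwN

end Sing

end Cfsg.Agent.H361.CV
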